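import Mathlib
import Groth.Agent.Lib.Helper19.MonoQc.Piece
import Groth.Agent.Lib.Helper19.StPtsSq
import Groth.Agent.Lib.Helper19.StkMore

/-!
# Quasi-compactness on points from a quasi-compact representing space; pieces without monomorphy (helper19)
-/

set_option autoImplicit false
set_option backward.isDefEq.respectTransparency false

universe w₃ v₃ w' v' w v u

open CategoryTheory CategoryTheory.Limits Functor AlgebraicGeometry Opposite

namespace Groth.Agent.Helper19.DiagQcN

open FibCat AlgSt Stk Groth.Agent.Helper19.FibLib Groth.Agent.Helper19.StLib Groth.Agent.Helper19.DiagAlgSp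
  Groth.Agent.Helper19.PshSt Groth.Agent.Helper19.AlgP Groth.Agent.Helper19.ProdAlg
  Groth.Agent.Helper19.ImmLib Groth.Agent.Helper19.SpProps Groth.Agent.Helper19.ChartOver
  Groth.Agent.Helper16.AS Groth.Agent.Helper19.CancelLib Groth.Agent.Helper19.QcLib
  Groth.Agent.Helper19.SmLocLib Groth.Agent.Helper19.AlgStRep Groth.Agent.Helper19.PshLib
  Groth.Agent.Helper19.CompLib Groth.Agent.Helper19.StPts Groth.Agent.Helper19.QcMor
  Groth.Agent.Helper19.QcPts Groth.Agent.Helper19.MonoQc

variable {S : Scheme.{u}} {𝒳 𝒴 : AlgSt.Cat S}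

/-- **Lemma Q**: if `W ×_𝒴 𝒳` is represented by an algebraic space quasi-compact over `W`, its base change to a
quasi-compact scheme has a quasi-compact space of points. -/
theorem compactSpace_points_of_repOver (f : 𝒳 ⥤ᵇ 𝒴) {W : Over S} (t : overCat W ⥤ᵇ 𝒴)
    (h : RepOver AlgSp.IsQuasiCompactMor (fpFst t f)) (T' : Over S) [CompactSpace ↥T'.left] (c : T' ⟶ W) :
    CompactSpace (Points (fp (BasedFunctor.comp (overMap c) t) f)) := by
  obtain ⟨A, eA, heA, hA⟩ := h
  let g : (AlgSp.yon S).obj T' ⟶ (AlgSp.yon S).obj W := (AlgSp.yon S).map c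
  have sq := IsPullback.of_hasPullback (spMapOfOver (BasedFunctor.comp eA (fpFst t f))) g
  have hZ' : AlgSp.IsAlgSpace (pullback (spMapOfOver (BasedFunctor.comp eA (fpFst t f))) g) :=
    Groth.Agent.Helper15.isAlgSpace_of_isPullback (AlgSp.IsAlgSpace.yon_obj W).diag A.property
      (AlgSp.IsAlgSpace.yon_obj T') sq
  have hqc : AlgSp.IsQuasiCompactSp (pullback (spMapOfOver (BasedFunctor.comp eA (fpFst t f))) g) :=
    hA (AlgSp.IsAlgSpace.yon_obj T') ((Groth.Agent.Helper15.isQuasiCompactSp_yon_iff T').2 inferInstance)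
      g _ _ sq
  obtain ⟨E, hE, -⟩ := exists_equiv_of_isPullback f t eA heA g _ _ sq
  have h1 : CompactSpace (AlgSp.Points (pullback (spMapOfOver (BasedFunctor.comp eA (fpFst t f))) g)) :=
    Groth.Agent.Helper15.compactSpace_points_of_isQuasiCompactSp hqc
  have h2 : CompactSpace (Points (fp (BasedFunctor.comp (sqβ g) t) f)) :=
    (kappa ⟨_, hZ'⟩ E hE).compactSpace
  -- compare with the chart `overMap c`
  let θ₀ : BasedFunctor.comp (overMap c) t ≅
      BasedFunctor.comp (ofOverCat T') (BasedFunctor.comp (sqβ g) t) :=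
    (whiskerRightIso (overMapIso c) t).symm ≪≫ eqToIso (BasedFunctor.comp_assoc _ _ _)
  have e1 : IsEquivOver (fpCongrLeft f θ₀) := isEquivOver_fpCongrLeft f θ₀
  have e2 : IsEquivOver (fpPre (ofOverCat T') (BasedFunctor.comp (sqβ g) t) f) :=
    isEquivOver_fpPre _ (isEquivOver_ofOverCat T') _ f
  exact ((mapHomeo _ e1).trans (mapHomeo _ e2)).symm.compactSpace

end Groth.Agent.Helper19.DiagQcN
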