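import Mathlib
import Groth.Agent.Lib.Helper19.DiagQcN.Q
import Groth.Agent.Lib.Helper19.FpFibU

/-!
# Pieces without monomorphy: quasi-compactness of the base change (helper19)
-/

set_option autoImplicit false
set_option backward.isDefEq.respectTransparency false

universe w₅ v₅ w₄ v₄ w₃ v₃ w' v' w v u

open CategoryTheory CategoryTheory.Limits Functor AlgebraicGeometry Opposite

namespace Groth.Agent.Helper19.DiagQcN

open FibCat AlgSt Stk Groth.Agent.Helper19.FibLib Groth.Agent.Helper19.StLib Groth.Agent.Helper19.DiagAlgSp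
  Groth.Agent.Helper19.PshSt Groth.Agent.Helper19.AlgP Groth.Agent.Helper19.ProdAlg
  Groth.Agent.Helper19.ImmLib Groth.Agent.Helper19.SpProps Groth.Agent.Helper19.ChartOver
  Groth.Agent.Helper16.AS Groth.Agent.Helper19.CancelLib Groth.Agent.Helper19.QcLib
  Groth.Agent.Helper19.SmLocLib Groth.Agent.Helper19.AlgStRep Groth.Agent.Helper19.PshLib
  Groth.Agent.Helper19.CompLib Groth.Agent.Helper19.StPts Groth.Agent.Helper19.QcMor
  Groth.Agent.Helper19.QcPts Groth.Agent.Helper19.MonoQc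

variable {S : Scheme.{u}}

/-- the comparison of `fpPre` with the second projection of the pasted square. -/
def pasteLInvPreIso {𝒳 : BasedCategory.{v, w} (Over S)} {𝒴 : BasedCategory.{v', w'} (Over S)}
    {𝒲 : BasedCategory.{v₃, w₃} (Over S)} {𝒲' : BasedCategory.{v₄, w₄} (Over S)}
    (u : 𝒲' ⥤ᵇ 𝒲) (y : 𝒲 ⥤ᵇ 𝒴) (f : 𝒳 ⥤ᵇ 𝒴) :
    BasedFunctor.comp (pasteLInv u y f) (fpPre u y f) ≅ fpSnd u (fpFst y f) :=
  fpFunctorIso _ _ (fpIso u (fpFst y f)) (Iso.refl _) (fun x => by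
    simp [pasteLInv, fpPre, fpMap])

/-- the points of `𝒲 ×_𝒴 𝒳` lying over the image of `|𝒲'| → |𝒲|` come from `𝒲' ×_𝒴 𝒳`. -/
theorem mem_range_map_fpPre {𝒳 : BasedCategory.{v, w} (Over S)} {𝒴 : BasedCategory.{v', w'} (Over S)}
    {𝒲 : BasedCategory.{v₃, w₃} (Over S)} {𝒲' : BasedCategory.{v₄, w₄} (Over S)}
    (h𝒳 : IsFibGrpd 𝒳.p) (h𝒴 : IsFibGrpd 𝒴.p) (h𝒲 : IsFibGrpd 𝒲.p) (h𝒲' : IsFibGrpd 𝒲'.p)
    (u : 𝒲' ⥤ᵇ 𝒲) (y : 𝒲 ⥤ᵇ 𝒴) (f : 𝒳 ⥤ᵇ 𝒴) (φ : Points (fp y f)) (z : Points 𝒲')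
    (hz : Points.map u z = Points.map (fpFst y f) φ) :
    φ ∈ Set.range (Points.map (fpPre u y f)) := by
  have hfp : IsFibGrpd (fp y f).p := Groth.Agent.Helper19.FpFibU.isFibGrpd_fp y f h𝒲 h𝒳 h𝒴
  obtain ⟨w, -, hw⟩ := exists_points_fp_of_map_eq hfp h𝒲 h𝒲' (fpFst y f) u z φ hz
  refine ⟨Points.map (pasteLInv u y f) w, ?_⟩
  rw [← StPts.map_comp, map_congr (pasteLInvPreIso u y f), hw]

variable {𝒳 𝒴 : AlgSt.Cat S}

/-- the part of `|T ×_𝒳 𝒴|` over a piece is contained in a quasi-compact subset. -/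
theorem exists_compact_of_piece (h𝒳 : IsAlgStack Scheme.fppfPrecoverage 𝒳)
    (h𝒴 : IsAlgStack Scheme.fppfPrecoverage 𝒴) (f : 𝒴 ⥤ᵇ 𝒳) {V : Over S} (v : overCat V ⥤ᵇ 𝒳)
    (P : Piece f V v)
    (hP : ∀ (T' : Over S) [CompactSpace ↥T'.left] (c : T' ⟶ P.W),
      CompactSpace (Points (fp (BasedFunctor.comp (overMap c) (BasedFunctor.comp (overMap P.ι) v)) f)))
    (T : Over S) [CompactSpace ↥T.left] (a : T ⟶ V) :
    ∃ K : Set (Points (fp (BasedFunctor.comp (overMap a) v) f)), IsCompact K ∧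
      ∀ φ : Points (fp (BasedFunctor.comp (overMap a) v) f),
        (∃ t : ↥T.left, Points.map (fpFst _ f) φ = chartPt T t ∧ a.left t ∈ Set.range P.ι.left) → φ ∈ K := by
  haveI := P.noeth
  let T' : Over S := Over.mk (pullback.fst a.left P.ι.left ≫ T.hom)
  let b : T' ⟶ T := Over.homMk (pullback.fst a.left P.ι.left) rfl
  let c : T' ⟶ P.W := Over.homMk (pullback.snd a.left P.ι.left) (by
    change pullback.snd a.left P.ι.left ≫ P.W.hom = pullback.fst a.left P.ι.left ≫ T.hom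
    rw [← Over.w P.ι, ← Over.w a, ← Category.assoc, ← Category.assoc, pullback.condition])
  have hbc : b ≫ a = c ≫ P.ι := by
    ext
    exact pullback.condition
  haveI : CompactSpace ↥T'.left :=
    QuasiCompact.compactSpace_of_compactSpace (pullback.fst a.left P.ι.left)
  let y : overCat T ⥤ᵇ 𝒳 := BasedFunctor.comp (overMap a) v
  let e' : BasedFunctor.comp (overMap c) (BasedFunctor.comp (overMap P.ι) v) ≅
      BasedFunctor.comp (overMap b) y :=
    eqToIso (BasedFunctor.comp_assoc _ _ _).symm ≪≫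
      whiskerRightIso (Groth.Agent.Helper19.LocQCore.overMapComp c P.ι) v ≪≫
      eqToIso (congrArg (fun m => BasedFunctor.comp (overMap m) v) hbc.symm) ≪≫
      (whiskerRightIso (Groth.Agent.Helper19.LocQCore.overMapComp b a) v).symm ≪≫
      eqToIso (BasedFunctor.comp_assoc _ _ _)
  haveI := hP T' c
  haveI : CompactSpace (Points (fp (BasedFunctor.comp (overMap b) y) f)) :=
    (mapHomeo (fpCongrLeft f e') (isEquivOver_fpCongrLeft f e')).compactSpace
  have hfp : IsAlgStack Scheme.fppfPrecoverage (fp y f) :=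
    isAlgStack_fp h𝒳.isStack h𝒳.diag (isAlgStack_overCat T) h𝒴 _ f
  refine ⟨Set.range (Points.map (fpPre (overMap b) y f)),
    isCompact_range (continuous_points_map hfp _), ?_⟩
  rintro φ ⟨t, hφ, w, hw⟩
  obtain ⟨t', ht'₁, ht'₂⟩ := Scheme.Pullback.exists_preimage_pullback t w hw.symm
  refine mem_range_map_fpPre h𝒴.isStack.1 h𝒳.isStack.1 (isFibGrpd_overCat T) (isFibGrpd_overCat T')
    (overMap b) y f φ (chartPt T' t') ?_
  rw [← ofChart_eq, ofChart_overMap_id, hφ]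
  exact congrArg _ ht'₁

/-- **Lemma A2**: finitely many pieces covering the liftable points under `T ⟶ V`, each with quasi-compact base
changes, make `|T ×_𝒳 𝒴|` quasi-compact. -/
theorem compactSpace_points_fp_of_pieces' (h𝒳 : IsAlgStack Scheme.fppfPrecoverage 𝒳)
    (h𝒴 : IsAlgStack Scheme.fppfPrecoverage 𝒴) (f : 𝒴 ⥤ᵇ 𝒳) {V : Over S} (v : overCat V ⥤ᵇ 𝒳)
    (L : List (Piece f V v))
    (hL : ∀ P ∈ L, ∀ (T' : Over S) [CompactSpace ↥T'.left] (c : T' ⟶ P.W),
      CompactSpace (Points (fp (BasedFunctor.comp (overMap c) (BasedFunctor.comp (overMap P.ι) v)) f)))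
    (T : Over S) [CompactSpace ↥T.left] (a : T ⟶ V)
    (hcover : ∀ t : ↥T.left, a.left t ∈ liftLocus f v → ∃ P ∈ L, a.left t ∈ Set.range P.ι.left) :
    CompactSpace (Points (fp (BasedFunctor.comp (overMap a) v) f)) := by
  have key : ∀ L' : List (Piece f V v), (∀ P ∈ L', P ∈ L) →
      ∃ K : Set (Points (fp (BasedFunctor.comp (overMap a) v) f)), IsCompact K ∧
        ∀ φ : Points (fp (BasedFunctor.comp (overMap a) v) f),
          (∃ t : ↥T.left, Points.map (fpFst _ f) φ = chartPt T t ∧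
            ∃ P ∈ L', a.left t ∈ Set.range P.ι.left) → φ ∈ K := by
    intro L'
    induction L' with
    | nil =>
      intro _
      exact ⟨∅, isCompact_empty, fun φ ⟨t, _, P, hP, _⟩ => (List.not_mem_nil hP).elim⟩
    | cons P L' ih =>
      intro hsub
      obtain ⟨K₁, hK₁c, hK₁⟩ := exists_compact_of_piece h𝒳 h𝒴 f v P
        (hL P (hsub P List.mem_cons_self)) T a
      obtain ⟨K₂, hK₂c, hK₂⟩ := ih (fun Q hQ => hsub Q (List.mem_cons_of_mem _ hQ))
      refine ⟨K₁ ∪ K₂, hK₁c.union hK₂c, ?_⟩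
      rintro φ ⟨t, hφ, Q, hQ, hQr⟩
      rcases List.mem_cons.1 hQ with rfl | hQ'
      · exact Or.inl (hK₁ φ ⟨t, hφ, hQr⟩)
      · exact Or.inr (hK₂ φ ⟨t, hφ, Q, hQ', hQr⟩)
  obtain ⟨K, hKc, hK⟩ := key L (fun P hP => hP)
  have huniv : (Set.univ : Set (Points (fp (BasedFunctor.comp (overMap a) v) f))) ⊆ K := by
    intro φ _
    let t := (chartPt T).symm (Points.map (fpFst _ f) φ)
    have ht : Points.map (fpFst _ f) φ = chartPt T t := (Homeomorph.apply_symm_apply _ _).symm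
    have hE : a.left t ∈ liftLocus f v := by
      refine ⟨Points.map (fpSnd _ f) φ, ?_⟩
      rw [← StPts.map_comp, ← congrFun (map_congr (fpIso _ f)) φ, StPts.map_comp, ht, ← ofChart_eq,
        ofChart_overMap]
    obtain ⟨P, hPL, hP⟩ := hcover t hE
    exact hK φ ⟨t, ht, P, hPL, hP⟩
  exact ⟨hKc.of_isClosed_subset isClosed_univ huniv⟩

end Groth.Agent.Helper19.DiagQcN
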