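import Mathlib
import Groth.Agent.Lib.Helper19.DiagQcN.A2
import Groth.Agent.Lib.Helper19.ProdMap
import Groth.Agent.Lib.Helper19.YonLib

/-!
# Lifts through the diagonal and isomorphisms of the two projections (helper19)
-/

set_option autoImplicit false
set_option backward.isDefEq.respectTransparency false

universe w₅ v₅ w₄ v₄ w₃ v₃ w' v' w v u

open CategoryTheory CategoryTheory.Limits Functor AlgebraicGeometry Opposite

namespace Groth.Agent.Helper19.DiagQcN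

open FibCat AlgSt Stk Groth.Agent.Helper19.FibLib Groth.Agent.Helper19.StLib Groth.Agent.Helper19.DiagAlgSp
  Groth.Agent.Helper19.PshSt Groth.Agent.Helper19.AlgP Groth.Agent.Helper19.ProdAlg
  Groth.Agent.Helper19.ImmLib Groth.Agent.Helper19.SpProps Groth.Agent.Helper19.ChartOver
  Groth.Agent.Helper16.AS Groth.Agent.Helper19.CancelLib Groth.Agent.Helper19.QcLib
  Groth.Agent.Helper19.SmLocLib Groth.Agent.Helper19.AlgStRep Groth.Agent.Helper19.PshLib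
  Groth.Agent.Helper19.CompLib Groth.Agent.Helper19.StPts Groth.Agent.Helper19.QcMor
  Groth.Agent.Helper19.QcPts Groth.Agent.Helper19.MonoQc Groth.Agent.Helper19.ProdMap

variable {S : Scheme.{u}} {𝒳 : AlgSt.Cat S}

/-- the product `𝒳 ×_S 𝒳`. -/
abbrev Prod2 (𝒳 : AlgSt.Cat S) : AlgSt.Cat S := fp (toSelf 𝒳) (toSelf 𝒳)

/-- the diagonal. -/
abbrev Δ (𝒳 : AlgSt.Cat S) : 𝒳 ⥤ᵇ Prod2 𝒳 := FibCat.diag (toSelf 𝒳)

/-- the two projections. -/
abbrev pr₁ (𝒳 : AlgSt.Cat S) : Prod2 𝒳 ⥤ᵇ 𝒳 := fpFst (toSelf 𝒳) (toSelf 𝒳)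
abbrev pr₂ (𝒳 : AlgSt.Cat S) : Prod2 𝒳 ⥤ᵇ 𝒳 := fpSnd (toSelf 𝒳) (toSelf 𝒳)

/-- every point is the value of a chart from the spectrum of a field (explicit form). -/
theorem exists_field_chart_of_point {𝒴 : AlgSt.Cat S} (h𝒴 : IsFibGrpd 𝒴.p) (y : Points 𝒴) :
    ∃ (K : Type u) (_ : Field K) (str : Spec (CommRingCat.of K) ⟶ S) (G : overCat (Over.mk str) ⥤ᵇ 𝒴)
      (t₀ : ↥(Spec (CommRingCat.of K))), Points.ofChart G t₀ = y := by
  obtain ⟨q, rfl⟩ := Points.mk_surjective y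
  obtain ⟨G, θ, hθ⟩ := Groth.Agent.Helper19.YonLib.exists_chart_of_obj h𝒴 q.obj q.lies
  let t₀ : ↥(pt q).left := IsLocalRing.closedPoint q.K
  refine ⟨q.K, inferInstance, q.str, G, t₀, ?_⟩
  let m : ptObj (pt q) t₀ ⟶ Over.mk (𝟙 (pt q)) := Over.homMk (ptObj (pt q) t₀).hom
  exact Points.sound (rel_of_hom (q := q) (G.map m ≫ θ.hom))

/-- an isomorphism of the two projections of a chart of `𝒳 ×_S 𝒳` is a lift through the diagonal. -/
def liftIso {U : Over S} (y₀ : overCat U ⥤ᵇ Prod2 𝒳)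
    (φ : BasedFunctor.comp y₀ (pr₁ 𝒳) ≅ BasedFunctor.comp y₀ (pr₂ 𝒳)) :
    BasedFunctor.comp (BasedFunctor.comp y₀ (pr₁ 𝒳)) (Δ 𝒳) ≅ y₀ :=
  fpFunctorIso _ _ (Iso.refl _) φ (fun x => by
    have h2 : IsHomLift (selfOver (Over S)).p (𝟙 (𝒳.p.obj (y₀.obj x).obj.fst)) (y₀.obj x).obj.iso.hom :=
      (y₀.obj x).property
    have h3 : 𝒳.p.IsHomLift (𝟙 ((overCat U).p.obj x)) (φ.hom.toNatTrans.app x) := φ.hom.isHomLift' x
    have h4 : IsHomLift (selfOver (Over S)).p (𝟙 ((overCat U).p.obj x))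
        ((toSelf 𝒳).map (φ.hom.toNatTrans.app x)) := inferInstance
    have e : (y₀.obj x).obj.iso.hom = (toSelf 𝒳).map (φ.hom.toNatTrans.app x) :=
      selfOver_hom_ext' (𝒳.p.obj (y₀.obj x).obj.fst) ((overCat U).p.obj x) _ _
    have e1 : (toSelf 𝒳).map ((Iso.refl (BasedFunctor.comp (BasedFunctor.comp (BasedFunctor.comp y₀ (pr₁ 𝒳))
        (Δ 𝒳)) (fpFst (toSelf 𝒳) (toSelf 𝒳)))).hom.toNatTrans.app x) = 𝟙 _ := (toSelf 𝒳).map_id _
    have e3 : ((BasedFunctor.comp (BasedFunctor.comp y₀ (pr₁ 𝒳)) (Δ 𝒳)).obj x).obj.iso.hom = 𝟙 _ := rfl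
    rw [e1, e3, Category.id_comp, Category.id_comp]
    exact e)

/-- a point of the lift locus of a chart of `𝒳 ×_S 𝒳` through the diagonal gives an isomorphism of the two projections
over a field. -/
theorem exists_field_iso_of_point (h𝒳 : IsAlgStack Scheme.fppfPrecoverage 𝒳) {U : Over S}
    (y₀ : overCat U ⥤ᵇ Prod2 𝒳) (t : ↥U.left) (ht : t ∈ liftLocus (Δ 𝒳) y₀) :
    ∃ (L : Type u) (_ : Field L) (g : Spec (CommRingCat.of L) ⟶ U.left), Set.range g.base = {t} ∧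
      Nonempty (BasedFunctor.comp (AlgSt.overMap (Over.homMk g rfl : Over.mk (g ≫ U.hom) ⟶ U))
          (BasedFunctor.comp y₀ (pr₁ 𝒳)) ≅
        BasedFunctor.comp (AlgSt.overMap (Over.homMk g rfl : Over.mk (g ≫ U.hom) ⟶ U))
          (BasedFunctor.comp y₀ (pr₂ 𝒳))) := by
  have hself : IsFibGrpd (selfOver (Over S)).p := isFibGrpd_selfOver (Over S)
  have h𝒫 : IsFibGrpd (Prod2 𝒳).p :=
    Groth.Agent.Helper19.FpFibU.isFibGrpd_fp _ _ h𝒳.isStack.1 h𝒳.isStack.1 hself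
  have hfp : IsFibGrpd (fp y₀ (Δ 𝒳)).p :=
    Groth.Agent.Helper19.FpFibU.isFibGrpd_fp _ _ (isFibGrpd_overCat U) h𝒳.isStack.1 h𝒫
  obtain ⟨ξ, hξ⟩ := ht
  rw [ofChart_eq] at hξ
  obtain ⟨ψ, hψ, -⟩ := exists_points_fp_of_map_eq h𝒳.isStack.1 h𝒫 (isFibGrpd_overCat U) (Δ 𝒳) y₀
    (chartPt U t) ξ hξ.symm
  obtain ⟨K, _, str, G, t₀, hG⟩ := exists_field_chart_of_point hfp ψ
  obtain ⟨a, ⟨η⟩⟩ := exists_overMap_iso (BasedFunctor.comp G (fpFst y₀ (Δ 𝒳)))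
  have hat : a.left t₀ = t := by
    apply (chartPt U).injective
    rw [← hψ, ← hG, map_ofChart, ofChart_congr η, ofChart_overMap_id]
  let g : Spec (CommRingCat.of K) ⟶ U.left := a.left
  let T' : Over S := Over.mk (g ≫ U.hom)
  let a' : T' ⟶ U := Over.homMk g rfl
  let iT : T' ⟶ Over.mk str := Over.homMk (𝟙 _) (by
    change 𝟙 _ ≫ str = a.left ≫ U.hom
    rw [Category.id_comp, Over.w a]
    rfl)
  have hia : iT ≫ a = a' := by
    ext
    exact Category.id_comp _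
  refine ⟨K, inferInstance, g, ?_, ⟨?_⟩⟩
  · ext p
    constructor
    · rintro ⟨q, rfl⟩
      have : q = t₀ := Subsingleton.elim _ _
      rw [this]
      exact hat
    · rintro rfl
      exact ⟨t₀, hat⟩
  · have ρ : ∀ (pr : Prod2 𝒳 ⥤ᵇ 𝒳), BasedFunctor.comp (Δ 𝒳) pr = BasedFunctor.id 𝒳 →
        (BasedFunctor.comp (overMap a) (BasedFunctor.comp y₀ pr) ≅
          BasedFunctor.comp G (fpSnd y₀ (Δ 𝒳))) := fun pr hpr =>
      eqToIso (BasedFunctor.comp_assoc _ _ _).symm ≪≫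
        whiskerRightIso (whiskerRightIso η.symm y₀ ≪≫ eqToIso (BasedFunctor.comp_assoc _ _ _) ≪≫
          whiskerLeftIso G (fpIso y₀ (Δ 𝒳)) ≪≫ eqToIso (BasedFunctor.comp_assoc _ _ _).symm) pr ≪≫
        eqToIso (by rw [BasedFunctor.comp_assoc, hpr, BasedFunctor.comp_id])
    have κ : ∀ (x : Prod2 𝒳 ⥤ᵇ 𝒳), BasedFunctor.comp (overMap a') (BasedFunctor.comp y₀ x) ≅
        BasedFunctor.comp (overMap iT) (BasedFunctor.comp (overMap a) (BasedFunctor.comp y₀ x)) := fun x =>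
      whiskerRightIso (eqToIso (congrArg overMap hia.symm) ≪≫
        (Groth.Agent.Helper19.LocQCore.overMapComp iT a).symm) (BasedFunctor.comp y₀ x) ≪≫
        eqToIso (BasedFunctor.comp_assoc _ _ _)
    exact κ (pr₁ 𝒳) ≪≫ whiskerLeftIso (overMap iT) (ρ (pr₁ 𝒳) rfl ≪≫ (ρ (pr₂ 𝒳) rfl).symm) ≪≫
      (κ (pr₂ 𝒳)).symm

end Groth.Agent.Helper19.DiagQcN
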