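import Mathlib
import Groth.Agent.Lib.Helper19.DiagQcN.IsoPt
import Groth.Agent.Lib.Helper19.MonoQc.Strat

/-!
# Stratification of a Noetherian affine chart of `𝒳 ×_S 𝒳` by lifts through the diagonal (helper19)
-/

set_option autoImplicit false
set_option backward.isDefEq.respectTransparency false

universe w₅ v₅ w₄ v₄ w₃ v₃ w' v' w v u

open CategoryTheory CategoryTheory.Limits Functor AlgebraicGeometry Opposite

namespace Groth.Agent.Helper19.DiagQcN

open FibCat AlgSt Stk Groth.Agent.Helper19.FibLib Groth.Agent.Helper19.StLib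
  Groth.Agent.Helper19.ChartOver Groth.Agent.Helper19.StPts Groth.Agent.Helper19.QcPts
  Groth.Agent.Helper19.MonoQc

variable {S : Scheme.{u}} {𝒳 : AlgSt.Cat S}

/-- the hypothesis (ii) of the statement: generic isomorphisms spread out. -/
def GenIso (𝒳 : AlgSt.Cat S) : Prop :=
  ∀ (U : Over S), IsAffine U.left → IsIntegral U.left → ∀ (x y : FibCat.overCat U ⥤ᵇ 𝒳)
      (D : Set ↥U.left), Dense D →
      (∀ t ∈ D, ∃ (L : Type u) (_ : Field L) (g : Spec (CommRingCat.of L) ⟶ U.left), Set.range g.base = {t} ∧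
        Nonempty (BasedFunctor.comp (AlgSt.overMap (Over.homMk g rfl : Over.mk (g ≫ U.hom) ⟶ U)) x ≅
          BasedFunctor.comp (AlgSt.overMap (Over.homMk g rfl : Over.mk (g ≫ U.hom) ⟶ U)) y)) →
      ∃ V : U.left.Opens, Dense (V : Set ↥U.left) ∧
        Nonempty (BasedFunctor.comp (AlgSt.overMap (Over.homMk V.ι rfl : Over.mk (V.ι ≫ U.hom) ⟶ U)) x ≅
          BasedFunctor.comp (AlgSt.overMap (Over.homMk V.ι rfl : Over.mk (V.ι ≫ U.hom) ⟶ U)) y)

/-- a chart of `𝒳 ×_S 𝒳` from the spectrum of a Noetherian ring is covered, on its lift locus through the diagonal,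
by finitely many affine pieces. -/
theorem exists_pieces_of_noetherian₂ (h𝒳 : IsAlgStack Scheme.fppfPrecoverage 𝒳) (hc : GenIso 𝒳)
    (R₀ : Type u) [CommRing R₀] [IsNoetherianRing R₀] (s₀ : Spec (CommRingCat.of R₀) ⟶ S)
    (y₀ : overCat (Over.mk s₀) ⥤ᵇ Prod2 𝒳) :
    ∃ L : List (Piece (Δ 𝒳) (Over.mk s₀) y₀), (∀ P ∈ L, IsAffine P.W.left) ∧
      ∀ p : ↥(Spec (CommRingCat.of R₀)),
        p ∈ liftLocus (Δ 𝒳) y₀ → ∃ P ∈ L, p ∈ Set.range P.ι.left := by
  classical
  suffices H : ∀ C : TopologicalSpace.Closeds (PrimeSpectrum R₀),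
      ∃ L : List (Piece (Δ 𝒳) (Over.mk s₀) y₀), (∀ P ∈ L, IsAffine P.W.left) ∧
        ∀ p : PrimeSpectrum R₀, p ∈ (C : Set (PrimeSpectrum R₀)) →
          p ∈ liftLocus (Δ 𝒳) y₀ → ∃ P ∈ L, p ∈ Set.range P.ι.left by
    obtain ⟨L, hLa, hL⟩ := H ⊤
    exact ⟨L, hLa, fun p hp => hL p trivial hp⟩
  intro C
  apply wellFounded_lt.induction C; clear C
  intro C IH
  rcases eq_or_ne C ⊥ with rfl | h₀
  · exact ⟨[], fun P hP => (List.not_mem_nil hP).elim, fun p hp => hp.elim⟩
  by_cases h₁ : IsPreirreducible (C : Set (PrimeSpectrum R₀))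
  · -- the irreducible case
    have hirr : IsIrreducible (C : Set (PrimeSpectrum R₀)) :=
      ⟨TopologicalSpace.Closeds.coe_nonempty.2 h₀, h₁⟩
    let 𝔭 : Ideal R₀ := PrimeSpectrum.vanishingIdeal (C : Set (PrimeSpectrum R₀))
    haveI h𝔭 : 𝔭.IsPrime := PrimeSpectrum.isIrreducible_iff_vanishingIdeal_isPrime.1 hirr
    have hzl : PrimeSpectrum.zeroLocus (𝔭 : Set R₀) = (C : Set (PrimeSpectrum R₀)) := by
      rw [PrimeSpectrum.zeroLocus_vanishingIdeal_eq_closure]
      exact C.isClosed.closure_eq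
    let A : Type u := R₀ ⧸ 𝔭
    let q : R₀ →+* A := Ideal.Quotient.mk 𝔭
    have hq : Function.Surjective q := Ideal.Quotient.mk_surjective
    let j : Spec (CommRingCat.of A) ⟶ Spec (CommRingCat.of R₀) := Spec.map (CommRingCat.ofHom q)
    have hjce : Topology.IsClosedEmbedding (j : ↥(Spec (CommRingCat.of A)) → ↥(Spec (CommRingCat.of R₀))) :=
      PrimeSpectrum.isClosedEmbedding_comap_of_surjective _ q hq
    have hjr : Set.range (j : ↥(Spec (CommRingCat.of A)) → ↥(Spec (CommRingCat.of R₀))) =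
        (C : Set (PrimeSpectrum R₀)) := by
      rw [← hzl]
      have := range_comap_of_surjective A q hq
      rw [Ideal.mk_ker] at this
      exact this
    let sA : Spec (CommRingCat.of A) ⟶ S := j ≫ s₀
    let jO : Over.mk sA ⟶ Over.mk s₀ := Over.homMk j rfl
    let a : overCat (Over.mk sA) ⥤ᵇ Prod2 𝒳 := BasedFunctor.comp (overMap jO) y₀
    let D : Set ↥(Spec (CommRingCat.of A)) := liftLocus (Δ 𝒳) a
    have hD : D = (j : ↥(Spec (CommRingCat.of A)) → ↥(Spec (CommRingCat.of R₀))) ⁻¹' liftLocus (Δ 𝒳) y₀ :=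
      liftLocus_overMap (Δ 𝒳) jO y₀
    by_cases hdense : Dense D
    · haveI : IsDomain A := inferInstanceAs (IsDomain (R₀ ⧸ 𝔭))
      obtain ⟨V', hV'd, ⟨φ⟩⟩ := hc (Over.mk sA) (inferInstanceAs (IsAffine (Spec (CommRingCat.of A))))
        (inferInstanceAs (IsIntegral (Spec (CommRingCat.of A))))
        (BasedFunctor.comp a (pr₁ 𝒳)) (BasedFunctor.comp a (pr₂ 𝒳)) D hdense
        (fun t ht => exists_field_iso_of_point h𝒳 a t ht)
      haveI : Nonempty ↥(Over.mk sA).left := inferInstanceAs (Nonempty (PrimeSpectrum A))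
      obtain ⟨u₁, hu₁⟩ := hV'd.nonempty
      obtain ⟨N, hNaff, hu₀, hNV⟩ : ∃ N : (Spec (CommRingCat.of A)).Opens, IsAffineOpen N ∧ u₁ ∈ N ∧ N ≤ V' :=
        TopologicalSpace.Opens.isBasis_iff_nbhd.1
          ((Spec (CommRingCat.of A)).isBasis_affineOpens) (U := V') hu₁
      let WN : Over S := Over.mk (N.ι ≫ sA)
      let iN : WN ⟶ Over.mk sA := Over.homMk N.ι rfl
      let WV : Over S := Over.mk (V'.ι ≫ sA)
      let iV : WV ⟶ Over.mk sA := Over.homMk V'.ι rfl
      let k : WN ⟶ WV := Over.homMk ((Spec (CommRingCat.of A)).homOfLE hNV) (by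
        change (Spec (CommRingCat.of A)).homOfLE hNV ≫ V'.ι ≫ sA = N.ι ≫ sA
        rw [← Category.assoc]
        exact congrArg (· ≫ sA) (Scheme.homOfLE_ι _ hNV))
      have hk : k ≫ iV = iN := by
        ext
        exact Scheme.homOfLE_ι _ hNV
      have hnoeth : TopologicalSpace.NoetherianSpace ↥WN.left := by
        haveI : IsNoetherianRing A := inferInstanceAs (IsNoetherianRing (R₀ ⧸ 𝔭))
        haveI : TopologicalSpace.NoetherianSpace ↥(Spec (CommRingCat.of A)) :=
          inferInstanceAs (TopologicalSpace.NoetherianSpace (PrimeSpectrum A))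
        exact (TopologicalSpace.noetherianSpace_set_iff (N : Set ↥(Spec (CommRingCat.of A)))).2
          fun t _ => TopologicalSpace.NoetherianSpace.isCompact t
      let b : overCat WN ⥤ᵇ Prod2 𝒳 := BasedFunctor.comp (overMap iN) a
      have κ : ∀ (x : Prod2 𝒳 ⥤ᵇ 𝒳), BasedFunctor.comp b x ≅
          BasedFunctor.comp (overMap k) (BasedFunctor.comp (overMap iV) (BasedFunctor.comp a x)) := fun x =>
        eqToIso (BasedFunctor.comp_assoc _ _ _) ≪≫
        whiskerRightIso (eqToIso (congrArg overMap hk.symm) ≪≫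
          (Groth.Agent.Helper19.LocQCore.overMapComp k iV).symm) (BasedFunctor.comp a x) ≪≫
          eqToIso (BasedFunctor.comp_assoc _ _ _)
      let φN : BasedFunctor.comp b (pr₁ 𝒳) ≅ BasedFunctor.comp b (pr₂ 𝒳) :=
        κ (pr₁ 𝒳) ≪≫ whiskerLeftIso (overMap k) φ ≪≫ (κ (pr₂ 𝒳)).symm
      let P₀ : Piece (Δ 𝒳) (Over.mk s₀) y₀ :=
        { W := WN
          ι := iN ≫ jO
          noeth := hnoeth
          y := BasedFunctor.comp b (pr₁ 𝒳)
          θ := liftIso b φN ≪≫ eqToIso (BasedFunctor.comp_assoc _ _ _).symm ≪≫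
            whiskerRightIso (Groth.Agent.Helper19.LocQCore.overMapComp iN jO) y₀ }
      let C' : TopologicalSpace.Closeds (PrimeSpectrum R₀) :=
        ⟨j '' ((N : Set ↥(Spec (CommRingCat.of A)))ᶜ), hjce.isClosedMap _ N.isOpen.isClosed_compl⟩
      have hC'lt : C' < C := by
        have hle : (C' : Set (PrimeSpectrum R₀)) ⊆ (C : Set (PrimeSpectrum R₀)) := by
          rintro _ ⟨x, -, rfl⟩
          rw [← hjr]
          exact ⟨x, rfl⟩
        refine lt_of_le_of_ne (SetLike.coe_subset_coe.1 hle) ?_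
        · intro he
          have h1 : j u₁ ∈ (C' : Set (PrimeSpectrum R₀)) := by
            rw [he, ← hjr]
            exact ⟨u₁, rfl⟩
          obtain ⟨x, hx, hxe⟩ := h1
          exact hx (hjce.injective hxe ▸ hu₀)
      obtain ⟨L', hL'a, hL'⟩ := IH C' hC'lt
      refine ⟨P₀ :: L', ?_, fun p hpC hpE => ?_⟩
      · intro P hP
        rcases List.mem_cons.1 hP with rfl | hP
        · exact hNaff
        · exact hL'a P hP
      rw [← hjr] at hpC
      obtain ⟨p', rfl⟩ := hpC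
      by_cases hp'U : p' ∈ (N : Set ↥(Spec (CommRingCat.of A)))
      · refine ⟨P₀, List.mem_cons_self, ⟨⟨p', hp'U⟩, rfl⟩⟩
      · obtain ⟨P, hP, hPr⟩ := hL' (j p') ⟨p', hp'U, rfl⟩ hpE
        exact ⟨P, List.mem_cons_of_mem _ hP, hPr⟩
    · let C' : TopologicalSpace.Closeds (PrimeSpectrum R₀) :=
        ⟨j '' closure D, hjce.isClosedMap _ isClosed_closure⟩
      have hC'lt : C' < C := by
        have hle : (C' : Set (PrimeSpectrum R₀)) ⊆ (C : Set (PrimeSpectrum R₀)) := by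
          rintro _ ⟨x, -, rfl⟩
          rw [← hjr]
          exact ⟨x, rfl⟩
        refine lt_of_le_of_ne (SetLike.coe_subset_coe.1 hle) ?_
        · intro he
          apply hdense
          intro x
          have h1 : j x ∈ (C' : Set (PrimeSpectrum R₀)) := by
            rw [he, ← hjr]
            exact ⟨x, rfl⟩
          obtain ⟨x', hx', hxe⟩ := h1
          exact hjce.injective hxe ▸ hx'
      obtain ⟨L', hL'a, hL'⟩ := IH C' hC'lt
      refine ⟨L', hL'a, fun p hpC hpE => ?_⟩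
      rw [← hjr] at hpC
      obtain ⟨p', rfl⟩ := hpC
      have hp'D : p' ∈ D := by
        rw [hD]
        exact hpE
      exact hL' (j p') ⟨p', subset_closure hp'D, rfl⟩ hpE
  · -- the reducible case
    simp only [isPreirreducible_iff_isClosed_union_isClosed, not_forall, not_or] at h₁
    obtain ⟨z₁, z₂, hz₁, hz₂, h, hz₁', hz₂'⟩ := h₁
    lift z₁ to TopologicalSpace.Closeds (PrimeSpectrum R₀) using hz₁
    lift z₂ to TopologicalSpace.Closeds (PrimeSpectrum R₀) using hz₂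
    obtain ⟨L₁, hL₁a, hL₁⟩ := IH (C ⊓ z₁) (inf_lt_left.2 hz₁')
    obtain ⟨L₂, hL₂a, hL₂⟩ := IH (C ⊓ z₂) (inf_lt_left.2 hz₂')
    refine ⟨L₁ ++ L₂, ?_, fun p hpC hpE => ?_⟩
    · intro P hP
      rcases List.mem_append.1 hP with hP | hP
      · exact hL₁a P hP
      · exact hL₂a P hP
    rcases h hpC with hp1 | hp2
    · obtain ⟨P, hP, hPr⟩ := hL₁ p ⟨hpC, hp1⟩ hpE
      exact ⟨P, List.mem_append_left _ hP, hPr⟩
    · obtain ⟨P, hP, hPr⟩ := hL₂ p ⟨hpC, hp2⟩ hpE
      exact ⟨P, List.mem_append_right _ hP, hPr⟩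

end Groth.Agent.Helper19.DiagQcN
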