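import Mathlib
import Groth.Agent.Lib.Helper19.DiagQcN.Strat2
import Groth.Agent.Lib.Helper19.DiagQcN.Q
import Groth.Agent.Lib.Helper19.MonoQc.Main
import Groth.Agent.Lib.Helper19.SpProps2

/-!
# Quasi-compactness of the diagonal from quasi-compact automorphism groups and spreading of generic isomorphisms
(helper19)
-/

set_option autoImplicit false
set_option backward.isDefEq.respectTransparency false

universe w₅ v₅ w₄ v₄ w₃ v₃ w' v' w v u

open CategoryTheory CategoryTheory.Limits Functor AlgebraicGeometry Opposite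

namespace Groth.Agent.Helper19.DiagQcN

open FibCat AlgSt Stk Groth.Agent.Helper19.FibLib Groth.Agent.Helper19.StLib Groth.Agent.Helper19.DiagAlgSp
  Groth.Agent.Helper19.PshSt Groth.Agent.Helper19.AlgP Groth.Agent.Helper19.ProdAlg
  Groth.Agent.Helper19.ImmLib Groth.Agent.Helper19.SpProps Groth.Agent.Helper19.ChartOver
  Groth.Agent.Helper16.AS Groth.Agent.Helper19.CancelLib Groth.Agent.Helper19.QcLib
  Groth.Agent.Helper19.SmLocLib Groth.Agent.Helper19.AlgStRep Groth.Agent.Helper19.PshLib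
  Groth.Agent.Helper19.CompLib Groth.Agent.Helper19.StPts Groth.Agent.Helper19.QcMor
  Groth.Agent.Helper19.QcPts Groth.Agent.Helper19.MonoQc

variable {S : Scheme.{u}} {𝒳 : AlgSt.Cat S}

/-- the hypothesis (i) of the statement: automorphism sheaves over affine schemes are quasi-compact algebraic
spaces. -/
def AutQc (𝒳 : AlgSt.Cat S) : Prop :=
  ∀ (U : Over S), IsAffine U.left → ∀ (x : FibCat.overCat U ⥤ᵇ 𝒳),
      ∃ (F : AlgSp.Space S) (e : AlgSt.ofSp F.obj ⥤ᵇ FibCat.fp (FibCat.fpLift x x (Iso.refl _)) (FibCat.diag (FibCat.toSelf 𝒳))),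
        FibCat.IsEquivOver e ∧
          AlgSp.IsQuasiCompactMor (AlgSt.spMapOfOver (BasedFunctor.comp e (FibCat.fpFst _ _)))

/-- pieces covering the lift locus on a quasi-compact subset of a locally Noetherian chart. -/
theorem exists_pieces_of_isCompact₂ (h𝒳 : IsAlgStack Scheme.fppfPrecoverage 𝒳) (hc : GenIso 𝒳)
    {V : Over S} [IsLocallyNoetherian V.left] (v : overCat V ⥤ᵇ Prod2 𝒳) (K : Set ↥V.left) (hK : IsCompact K) :
    ∃ L : List (Piece (Δ 𝒳) V v), (∀ P ∈ L, IsAffine P.W.left) ∧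
      ∀ p ∈ K, p ∈ liftLocus (Δ 𝒳) v → ∃ P ∈ L, p ∈ Set.range P.ι.left := by
  refine hK.induction_on (p := fun K => ∃ L : List (Piece (Δ 𝒳) V v), (∀ P ∈ L, IsAffine P.W.left) ∧
    ∀ p ∈ K, p ∈ liftLocus (Δ 𝒳) v → ∃ P ∈ L, p ∈ Set.range P.ι.left) ?_ ?_ ?_ ?_
  · exact ⟨[], fun P hP => (List.not_mem_nil hP).elim, fun p hp => hp.elim⟩
  · rintro s t hst ⟨L, hLa, hL⟩
    exact ⟨L, hLa, fun p hp => hL p (hst hp)⟩
  · rintro s t ⟨L₁, hL₁a, hL₁⟩ ⟨L₂, hL₂a, hL₂⟩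
    refine ⟨L₁ ++ L₂, ?_, fun p hp hpE => ?_⟩
    · intro P hP
      rcases List.mem_append.1 hP with hP | hP
      · exact hL₁a P hP
      · exact hL₂a P hP
    rcases hp with hp | hp
    · obtain ⟨P, hP, hPr⟩ := hL₁ p hp hpE
      exact ⟨P, List.mem_append_left _ hP, hPr⟩
    · obtain ⟨P, hP, hPr⟩ := hL₂ p hp hpE
      exact ⟨P, List.mem_append_right _ hP, hPr⟩
  · intro x _
    obtain ⟨_, ⟨N₀, hN, rfl⟩, hxN, -⟩ :=
      (V.left.isBasis_affineOpens).exists_subset_of_mem_open (Set.mem_univ x) isOpen_univ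
    let N : V.left.Opens := N₀
    refine ⟨(N : Set ↥V.left), mem_nhdsWithin_of_mem_nhds (N.isOpen.mem_nhds hxN), ?_⟩
    haveI : IsNoetherianRing Γ(V.left, N) := IsLocallyNoetherian.component_noetherian ⟨N, hN⟩
    let j₀ : Spec (CommRingCat.of Γ(V.left, N)) ⟶ V.left := hN.fromSpec
    let s₀ : Spec (CommRingCat.of Γ(V.left, N)) ⟶ S := j₀ ≫ V.hom
    let jO : Over.mk s₀ ⟶ V := Over.homMk j₀ rfl
    obtain ⟨L₀, hL₀a, hL₀⟩ := exists_pieces_of_noetherian₂ h𝒳 hc Γ(V.left, N) s₀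
      (BasedFunctor.comp (overMap jO) v)
    refine ⟨L₀.map (Piece.comp jO), ?_, fun p hpN hpE => ?_⟩
    · intro P hP
      obtain ⟨P₀, hP₀, rfl⟩ := List.mem_map.1 hP
      exact hL₀a P₀ hP₀
    have hr : Set.range (j₀ : ↥(Spec (CommRingCat.of Γ(V.left, N))) → ↥V.left) = (N : Set ↥V.left) :=
      hN.range_fromSpec
    rw [← hr] at hpN
    obtain ⟨p', rfl⟩ := hpN
    have hp'E : p' ∈ liftLocus (Δ 𝒳) (BasedFunctor.comp (overMap jO) v) := by
      rw [liftLocus_overMap]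
      exact hpE
    obtain ⟨P, hP, w, hw⟩ := hL₀ p' hp'E
    refine ⟨Piece.comp jO P, List.mem_map_of_mem hP, w, ?_⟩
    change j₀ (P.ι.left w) = j₀ p'
    rw [hw]

/-- the base change of the diagonal over an affine piece has quasi-compact spaces of points after quasi-compact base
change. -/
theorem compactSpace_of_piece (hi : AutQc 𝒳) {V : Over S} (v : overCat V ⥤ᵇ Prod2 𝒳)
    (P : Piece (Δ 𝒳) V v) (hW : IsAffine P.W.left) (T' : Over S) [CompactSpace ↥T'.left] (c : T' ⟶ P.W) :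
    CompactSpace (Points (fp (BasedFunctor.comp (overMap c) (BasedFunctor.comp (overMap P.ι) v)) (Δ 𝒳))) := by
  have h : RepOver AlgSp.IsQuasiCompactMor
      (fpFst (fpLift P.y P.y (Iso.refl (BasedFunctor.comp P.y (toSelf 𝒳)))) (Δ 𝒳)) := hi P.W hW P.y
  haveI := compactSpace_points_of_repOver (Δ 𝒳) _ h T' c
  let ε : fpLift P.y P.y (Iso.refl (BasedFunctor.comp P.y (toSelf 𝒳))) ≅
      BasedFunctor.comp (overMap P.ι) v := (Iso.refl _ : BasedFunctor.comp P.y (Δ 𝒳) ≅ _).symm ≪≫ P.θ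
  exact (mapHomeo (fpCongrLeft (Δ 𝒳) (whiskerLeftIso (overMap c) ε))
    (isEquivOver_fpCongrLeft (Δ 𝒳) _)).compactSpace

/-- **S15358.** -/
theorem repByAlgSpWith_isQuasiCompactMor_diag [IsLocallyNoetherian S]
    (h𝒳 : IsAlgStack Scheme.fppfPrecoverage 𝒳)
    (hlfp : ∀ (U : Over S) (x : FibCat.overCat U ⥤ᵇ 𝒳),
      AlgSt.RepByAlgSpWith (AlgSp.LocP @Smooth) x → LocallyOfFinitePresentation U.hom)
    (hi : AutQc 𝒳) (hii : GenIso 𝒳) :
    RepByAlgSpWith AlgSp.IsQuasiCompactMor (Δ 𝒳) := by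
  have hself : IsFibGrpd (selfOver (Over S)).p := isFibGrpd_selfOver (Over S)
  have h𝒫 : IsAlgStack Scheme.fppfPrecoverage (Prod2 𝒳) := isAlgStack_prod h𝒳 h𝒳
  refine repByAlgSpWith_of_isQuasiCompactMor h𝒳 h𝒫 (Δ 𝒳) h𝒳.diag ?_
  -- the atlas of the product
  obtain ⟨V₀, v₀, hv₀, hv₀s⟩ := h𝒳.atlas
  haveI : LocallyOfFinitePresentation V₀.hom := hlfp V₀ v₀ hv₀
  have hV₀ : IsFibGrpd (overCat V₀).p := isFibGrpd_overCat V₀
  have hsm : RepByAlgSpWith (AlgSp.LocP @Smooth) (prodMapGen v₀ v₀ (toSelf 𝒳) (toSelf 𝒳)) :=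
    repByAlgSpWith_prodMapGen (stableAlg_locP Groth.Agent.Helper15.goodP_smooth srcEtLoc_smooth)
      (compAlg_locP Groth.Agent.Helper15.goodP_smooth srcEtLoc_smooth)
      (descAtlas_of_fpqc isLocalOnBase_fpqc_locP_smooth) hV₀ hV₀ h𝒳.isStack.1 hself v₀ v₀ _ _ hv₀ hv₀
  have hsu : RepByAlgSpWith AlgSp.IsSurjectiveMor (prodMapGen v₀ v₀ (toSelf 𝒳) (toSelf 𝒳)) :=
    repByAlgSpWith_prodMapGen stableAlg_isSurjectiveMor compAlg_isSurjectiveMor descAtlas_isSurjectiveMor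
      hV₀ hV₀ h𝒳.isStack.1 hself v₀ v₀ _ _ hv₀s hv₀s
  obtain ⟨V, E, hVeq, hE⟩ := exists_equiv_fp_selfOver_pullback V₀ V₀
    (BasedFunctor.comp v₀ (toSelf 𝒳)) (BasedFunctor.comp v₀ (toSelf 𝒳))
  let v : overCat V ⥤ᵇ Prod2 𝒳 := BasedFunctor.comp E (prodMapGen v₀ v₀ (toSelf 𝒳) (toSelf 𝒳))
  have hv₁ : RepByAlgSpWith (AlgSp.LocP @Smooth) v := (repByAlgSpWith_equiv_comp E hE _).2 hsm
  have hv₂ : RepByAlgSpWith AlgSp.IsSurjectiveMor v := (repByAlgSpWith_equiv_comp E hE _).2 hsu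
  haveI hVN : IsLocallyNoetherian V.left := by
    rw [hVeq]
    haveI : IsLocallyNoetherian V₀.left := LocallyOfFiniteType.isLocallyNoetherian V₀.hom
    exact LocallyOfFiniteType.isLocallyNoetherian (pullback.fst V₀.hom V₀.hom)
  refine isQuasiCompactMor_of_fpFst_cover h𝒳 h𝒫 (isAlgStack_overCat V) (Δ 𝒳) v (fun 𝒵 h𝒵 g => ?_) ?_
  · have h𝒵' : IsAlgStack Scheme.fppfPrecoverage (fp g v) :=
      isAlgStack_fp h𝒫.isStack h𝒫.diag h𝒵 (isAlgStack_overCat V) g v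
    exact ⟨isOpenMap_map_of_flat_lfp h𝒵' h𝒵.isStack.1 _
      (repByAlgSpWith_fpFst v g (repByAlgSpWith_flat_of_smooth v hv₁))
      (repByAlgSpWith_fpFst v g (repByAlgSpWith_lfp_of_smooth v hv₁)),
      isSurjective_of_repByAlgSpWith h𝒵.isStack.1 _ (repByAlgSpWith_fpFst v g hv₂)⟩
  · intro 𝒵 h𝒵 hqc g
    obtain ⟨T, z, hT, hz₁, hz₂⟩ := hqc
    haveI : IsAffine T.left := hT
    obtain ⟨a, ⟨η⟩⟩ := exists_overMap_iso (BasedFunctor.comp z g)
    obtain ⟨L, hLa, hL⟩ := exists_pieces_of_isCompact₂ h𝒳 hii v (Set.range a.left)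
      (isCompact_range a.left.continuous)
    haveI hcomp : CompactSpace (Points (fp (BasedFunctor.comp (overMap a) v) (Δ 𝒳))) :=
      compactSpace_points_fp_of_pieces' h𝒫 h𝒳 (Δ 𝒳) v L
        (fun P hP T' _ c => compactSpace_of_piece hi v P (hLa P hP) T' c) T a
        (fun t ht => hL _ ⟨t, rfl⟩ ht)
    let π := fpFst v (Δ 𝒳)
    have hP0 : IsAlgStack Scheme.fppfPrecoverage (fp v (Δ 𝒳)) :=
      isAlgStack_fp h𝒫.isStack h𝒫.diag (isAlgStack_overCat V) h𝒳 v (Δ 𝒳)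
    have hfp : IsAlgStack Scheme.fppfPrecoverage (fp (BasedFunctor.comp (overMap a) v) (Δ 𝒳)) :=
      isAlgStack_fp h𝒫.isStack h𝒫.diag (isAlgStack_overCat T) h𝒳 _ (Δ 𝒳)
    have h2 : IsQuasiCompact (fp (BasedFunctor.comp (overMap a) v) (Δ 𝒳)) :=
      isQuasiCompact_of_compactSpace_points hfp
    have h3 : IsQuasiCompact (fp (overMap a) π) :=
      QcMor.isQuasiCompact_of_equiv (pasteL (overMap a) v (Δ 𝒳)) (isEquivOver_pasteL (overMap a) v (Δ 𝒳)) h2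
    have h4 : IsQuasiCompact (fp (BasedFunctor.comp z g) π) :=
      QcMor.isQuasiCompact_of_equiv (fpCongrLeft π η.symm) (isEquivOver_fpCongrLeft π η.symm) h3
    have h5 : IsQuasiCompact (fp z (fpFst g π)) :=
      QcMor.isQuasiCompact_of_equiv (pasteL z g π) (isEquivOver_pasteL z g π) h4
    have hP : IsAlgStack Scheme.fppfPrecoverage (fp g π) :=
      isAlgStack_fp (isAlgStack_overCat V).isStack (isAlgStack_overCat V).diag h𝒵 hP0 g π
    have hPP : IsAlgStack Scheme.fppfPrecoverage (fp z (fpFst g π)) :=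
      isAlgStack_fp h𝒵.isStack h𝒵.diag (isAlgStack_overCat T) hP _ _
    exact isQuasiCompact_of_isSurjective hPP hP (fpSnd z (fpFst g π))
      (isSurjective_fpSnd hP.isStack.1 h𝒵.isStack.1 (isFibGrpd_overCat T) (fpFst g π) z
        (isSurjective_of_repByAlgSpWith h𝒵.isStack.1 z hz₂)) h5

end Groth.Agent.Helper19.DiagQcN
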